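import Mathlib
import Groth.Agent.LinRed.UnramifiedNormal
import Groth.Agent.Unram.FlatUnramified

/-!
# Unramified domains over normal domains are étale, without Noetherian hypotheses
-/

set_option autoImplicit false

universe u

namespace Groth.Agent.UnramNormal

variable {R : Type u} [CommRing R] [IsDomain R] [IsIntegrallyClosed R]

theorem exists_idem_ker {E D : Type u} [CommRing E] [Algebra R E] [Algebra.Etale R E] [CommRing D] [IsDomain D]
    [Algebra R D] (hinj : Function.Injective (algebraMap R D)) (φ : E →ₐ[R] D) :
    ∃ e : E, IsIdempotentElem e ∧ RingHom.ker φ = Ideal.span {e} := by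
  set I : Ideal E := RingHom.ker φ
  have key : ∀ x ∈ I, ∃ y ∈ I, x = x * y := by
    intro x hx
    obtain ⟨e, v, r, hr, -, hxe, hxv⟩ := LinRed.exists_idem_mul_eq (R := R) x
    rw [RingHom.mem_ker] at hx
    have he : e ∈ I := by
      rw [RingHom.mem_ker]
      have h1 := congrArg φ hxv
      rw [map_mul, hx, zero_mul, map_smul, Algebra.smul_def, eq_comm, mul_eq_zero,
        map_eq_zero_iff _ hinj] at h1
      exact h1.resolve_left hr
    exact ⟨e, he, hxe.symm⟩
  haveI : I.Pure := Ideal.Pure.of_inf_eq_mul _ fun J _ => le_antisymm (fun x hx => by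
    obtain ⟨y, hy, hxy⟩ := key x hx.1
    rw [hxy, mul_comm x y]
    exact Ideal.mul_mem_mul hy hx.2) Ideal.mul_le_inf
  have hR : (minimalPrimes R).Finite := by
    refine (Set.finite_singleton (⊥ : Ideal R)).subset fun p hp => ?_
    exact le_antisymm (hp.2 ⟨Ideal.bot_prime, le_rfl⟩ bot_le) bot_le
  have hfg := Unram.pure_fg_of_finite_minimalPrimes I (Unram.finite_minimalPrimes_of_flat_quasiFinite R E hR)
  exact (Ideal.isIdempotentElem_iff_of_fg _ hfg).mp (Ideal.isIdempotentElem_of_pure I)

/-- **Unramified implies étale over a normal domain**, for domains containing it. -/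
theorem etale_of_unramified {A : Type u} [CommRing A] [IsDomain A] [Algebra R A]
    [Algebra.FiniteType R A] [Algebra.FormallyUnramified R A]
    (hinj : Function.Injective (algebraMap R A)) : Algebra.Etale R A := by
  have key : ∀ q : PrimeSpectrum A, ∃ f, f ∉ q.asIdeal ∧ Algebra.Etale R (Localization.Away f) := by
    intro q
    obtain ⟨f, hfq, P, φ, hφ⟩ := Algebra.IsUnramifiedAt.exists_hasStandardEtaleSurjectionOn (R := R) q.asIdeal
    refine ⟨f, hfq, ?_⟩
    have hf : f ≠ 0 := fun h ↦ hfq (h ▸ q.asIdeal.zero_mem)
    have hM : Submonoid.powers f ≤ nonZeroDivisors A := powers_le_nonZeroDivisors_of_noZeroDivisors hf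
    have : IsDomain (Localization.Away f) := IsLocalization.isDomain_localization hM
    have hi : Function.Injective (algebraMap R (Localization.Away f)) := by
      rw [IsScalarTower.algebraMap_eq R A (Localization.Away f)]
      exact (IsLocalization.injective _ hM).comp hinj
    obtain ⟨e, he, hfe⟩ := exists_idem_ker hi φ
    let := φ.toRingHom.toAlgebra
    have : IsScalarTower R P.Ring (Localization.Away f) := .of_algHom φ
    have := IsLocalization.away_of_isIdempotentElem he.one_sub (S := Localization.Away f)
      (hfe.trans (by simp)) hφ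
    have : Algebra.Etale P.Ring (Localization.Away f) := .of_isLocalizationAway (1 - e)
    exact .comp R P.Ring _
  choose f hf he using key
  refine RingHom.etale_algebraMap.mp (RingHom.Etale.ofLocalizationSpanTarget (algebraMap R A) (Set.range f) ?_ ?_)
  · rw [← PrimeSpectrum.iSup_basicOpen_eq_top_iff]
    refine top_le_iff.mp fun q _ => TopologicalSpace.Opens.mem_iSup.mpr ⟨q, hf q⟩
  · rintro ⟨_, q, rfl⟩
    rw [← IsScalarTower.algebraMap_eq]
    haveI := he q
    exact RingHom.etale_algebraMap.mpr inferInstance

end Groth.Agent.UnramNormal
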